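import Cfsg.Agent.H42.Rel.Over

/-!
# The central case of S4985, S4992 (task REL4985-CENTRAL, helper42)

`central`: `Z` central in `Q`, all irreducible characters of `Q` over the linear character `l` of `Z` have
`ω`-degree, and `Q ⧸ Z` has an abelian Hall `ω`-subgroup. Then `Q` is solvable, given the quasisimple case
`QSHyp` and the Itô-Michler theorem.
-/

set_option autoImplicit false
set_option linter.style.haveILetI false
set_option linter.unusedSectionVars false

namespace Cfsg.Agent.H42.Rel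

open Cfsg Cfsg.Agent.Characters.Core Subgroup
open Cfsg.Agent.H692.Rel Cfsg.Agent.H726.Rel Cfsg.Agent.H672
open scoped commutatorElement

universe u v

/-- The quasisimple case (task REL4985-QS). -/
def QSHyp : Prop :=
  ∀ (T C : Type u) [Group T] [Finite T] [IsSimpleGroup T] [Group C] [Finite C] (σ : C →* T)
    (ν : σ.ker →* ℂˣ) (ω : Set ℕ), ¬ IsMulCommutative T → Cfsg.IsStemExtension σ →
    Function.Injective ν → σ.ker ≠ ⊥ → PiNum ω (Nat.card σ.ker) → AllDeg ω σ.ker ν → AbHall ω T → False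

/-- A minimal counterexample. -/
structure Min (Q : Type u) [Group Q] (Z : Subgroup Q) [Z.Normal] (l : Z →* ℂˣ) (ω : Set ℕ) : Prop where
  cen : Z ≤ center Q
  deg : AllDeg ω Z l
  hall : AbHall ω (Q ⧸ Z)
  ns : ¬ Group.IsSolvable Q
  low : ∀ M : Subgroup Q, M.Normal → M ≠ ⊤ → Group.IsSolvable M
  quo : ∀ N : Subgroup Q, N.Normal → N ≠ ⊥ → Group.IsSolvable N →
    ∃ (z : Q) (hz : z ∈ Z), z ∈ N ∧ l ⟨z, hz⟩ ≠ 1

namespace Min
variable {Q : Type u} [Group Q] [Finite Q] {Z : Subgroup Q} [Z.Normal] {l : Z →* ℂˣ} {ω : Set ℕ}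

theorem exists_chi (h : Min Q Z l ω) : ∃ χ : Q → ℂ, IsIrrCharacter Q χ ∧ Ov Z l χ := by
  obtain ⟨χ, h1, h2⟩ := exists_over_subtype Z (Cfsg.Agent.H672.isIrr_lf l)
  exact ⟨χ, h1, (ov_iff_over h.cen l h1).2 h2⟩

theorem perfect (h : Min Q Z l ω) : commutator Q = ⊤ := by
  by_contra hne
  apply h.ns
  refine isSolvable_of_quot (commutator Q) (h.low _ inferInstance hne) ?_
  exact Group.isSolvable_of_comm (G := Abelianization Q) fun a b => mul_comm a b

/-- Homomorphisms to commutative groups are trivial. -/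
theorem hom_eq_one (h : Min Q Z l ω) {A : Type*} [Group A] (hA : ∀ a b : A, a * b = b * a) (f : Q →* A)
    (g : Q) : f g = 1 := by
  have h1 : commutator Q ≤ f.ker := by
    show ⁅(⊤ : Subgroup Q), ⊤⁆ ≤ _
    rw [Subgroup.commutator_le]
    intro a _ b _
    rw [MonoidHom.mem_ker, map_commutatorElement, commutatorElement_eq_one_iff_mul_comm]
    exact hA _ _
  rw [h.perfect] at h1
  exact h1 (mem_top g)

theorem not_solvable_of_le (h : Min Q Z l ω) {N : Subgroup Q} [N.Normal] (hN : Group.IsSolvable N) :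
    ¬ Group.IsSolvable (Q ⧸ N) := fun h1 => h.ns (isSolvable_of_quot N hN h1)

theorem ne_top_of_solvable (h : Min Q Z l ω) {N : Subgroup Q} (hN : Group.IsSolvable N) : N ≠ ⊤ := by
  intro h1
  exact h.ns (isSolvable_of_top h1 hN)

theorem inj (h : Min Q Z l ω) : Function.Injective l := by
  rw [injective_iff_map_eq_one]
  intro z hz
  by_contra hne
  let N : Subgroup Q := l.ker.map Z.subtype
  have hNc : ∀ n ∈ N, n ∈ center Q := by
    rintro _ ⟨y, -, rfl⟩
    exact h.cen y.2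
  have hNn : N.Normal := ⟨fun n hn g => by
    rw [(Subgroup.mem_center_iff.1 (hNc n hn) g), mul_inv_cancel_right]
    exact hn⟩
  obtain ⟨y, hy, hyN, h1⟩ := h.quo N hNn (by
    intro h1
    apply hne
    have h2 : (z : Q) ∈ N := ⟨z, hz, rfl⟩
    rw [h1, mem_bot] at h2
    exact Subtype.ext h2)
    (isSolvable_of_abelian fun a ha b _ => (Subgroup.mem_center_iff.1 (hNc a ha) b).symm)
  obtain ⟨w, hw, hwy⟩ := hyN
  apply h1
  have h2 : (⟨y, hy⟩ : Z) = w := Subtype.ext hwy.symm
  rw [h2]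
  exact hw

theorem piZ (h : Min Q Z l ω) : PiNum ω (Nat.card Z) := by
  obtain ⟨χ, hχ, hov⟩ := h.exists_chi
  obtain ⟨δ, hδ⟩ := exists_det h.cen hχ hov
  have h1 : ∀ z : Z, z ^ charDegree χ = 1 := by
    intro z
    apply h.inj
    rw [map_pow, map_one, ← hδ z]
    exact h.hom_eq_one mul_comm δ _
  intro q hq hqd
  have : Fact q.Prime := ⟨hq⟩
  obtain ⟨z, hz⟩ := exists_prime_orderOf_dvd_card' q hqd
  refine h.deg χ hχ hov q hq ?_
  rw [← hz]
  exact orderOf_dvd_of_pow_eq_one (h1 z)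

/-- Nilpotent normal subgroups are `ω`-groups. -/
theorem pi_of_nilpotent (h : Min Q Z l ω) (N : Subgroup Q) [hN : N.Normal] (hnil : Group.IsNilpotent N) :
    PiNum ω (Nat.card N) := by
  intro q hq hqd
  by_contra hqω
  have : Fact q.Prime := ⟨hq⟩
  obtain ⟨S⟩ : Nonempty (Sylow q N) := inferInstance
  have hSn : (S : Subgroup N).Normal := by
    have := (Group.isNilpotent_of_finite_tfae (G := N)).out 0 3
    exact this.1 hnil q ⟨hq⟩ S
  have hSc : (S : Subgroup N).Characteristic := Sylow.characteristic_of_normal S hSn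
  have hNn : ((S : Subgroup N).map N.subtype).Normal := inferInstance
  obtain ⟨z, hz, hzN, h1⟩ := h.quo ((S : Subgroup N).map N.subtype) hNn (by
    intro h2
    rw [Subgroup.map_eq_bot_iff_of_injective _ N.subtype_injective] at h2
    exact S.ne_bot_of_dvd_card hqd h2) (by
    have h3 : IsPGroup q ((S : Subgroup N).map N.subtype) := S.isPGroup'.map _
    have h4 := h3.isNilpotent
    infer_instance)
  obtain ⟨s, hs, hsz⟩ := hzN
  obtain ⟨k, hk⟩ := S.isPGroup' ⟨s, hs⟩
  have h2 : z ^ q ^ k = 1 := by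
    rw [← hsz, ← map_pow]
    have h3 : s ^ q ^ k = 1 := congrArg Subtype.val hk
    rw [h3, map_one]
  apply h1
  have h3 : (⟨z, hz⟩ : Z) = 1 := by
    rw [← orderOf_eq_one_iff]
    have h4 : orderOf (⟨z, hz⟩ : Z) ∣ q ^ k := orderOf_dvd_of_pow_eq_one (Subtype.ext h2)
    have h5 : orderOf (⟨z, hz⟩ : Z) ∣ Nat.card Z := orderOf_dvd_natCard _
    rw [Nat.dvd_prime_pow hq] at h4
    obtain ⟨m, -, hm⟩ := h4
    rcases Nat.eq_zero_or_pos m with h6 | h6
    · rw [hm, h6, pow_zero]
    · exact absurd (h.piZ q hq ((dvd_pow_self q h6.ne').trans (hm ▸ h5))) hqω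
  rw [h3, map_one]

/-- The largest normal proper subgroup. -/
theorem exists_K (h : Min Q Z l ω) : ∃ K : Subgroup Q, K.Normal ∧ K ≠ ⊤ ∧
    ∀ N : Subgroup Q, N.Normal → N ≠ ⊤ → N ≤ K := by
  classical
  obtain ⟨K, hK⟩ : ∃ K : Subgroup Q, Maximal (fun K : Subgroup Q => K.Normal ∧ K ≠ ⊤) K := by
    refine (Set.toFinite {K : Subgroup Q | K.Normal ∧ K ≠ ⊤}).exists_maximal ⟨⊥, inferInstance, ?_⟩
    intro h1
    apply h.ns
    refine isSolvable_of_top h1 (isSolvable_of_abelian fun a ha b hb => ?_)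
    rw [mem_bot.1 ha, mem_bot.1 hb]
  obtain ⟨hKn, hKt⟩ := hK.prop
  refine ⟨K, hKn, hKt, fun N hN hNt => ?_⟩
  refine le_of_solvable hKn hN (fun T hT hKT => ?_) (h.not_solvable_of_le (h.low K hKn hKt)) (h.low N hN hNt)
  by_cases hT' : T = ⊤
  · exact Or.inr hT'
  · exact Or.inl (hK.eq_of_le ⟨hT, hT'⟩ hKT).symm

/-- The preimage of the Hall subgroup is contained in no proper normal subgroup. -/
theorem not_le (h : Min Q Z l ω) {K : Subgroup Q} [hK : K.Normal] (hKt : K ≠ ⊤) (hZK : Z ≤ K)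
    {H : Subgroup (Q ⧸ Z)} (hH : PiNum ωᶜ H.index) : ¬ H.comap (QuotientGroup.mk' Z) ≤ K := by
  classical
  intro hle
  have h1 : PiNum ωᶜ K.index := by
    refine hH.of_dvd ?_
    rw [← Subgroup.index_comap_of_surjective H (QuotientGroup.mk'_surjective Z)]
    exact Subgroup.index_dvd_of_le hle
  obtain ⟨χ, hχ, hov⟩ := h.exists_chi
  obtain ⟨ξ, hξ, hχξ⟩ := exists_under (f := K.subtype) hχ
  obtain ⟨h2, h3⟩ := charDegree_dvd_of_over K hχ hξ hχξ
  have h4 : charDegree χ / charDegree ξ = 1 :=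
    ((h.deg χ hχ hov).of_dvd (Nat.div_dvd_of_dvd h2)).eq_one (h1.of_dvd h3)
  have h5 : charDegree ξ = charDegree χ := (Nat.eq_of_dvd_of_div_eq_one h2 h4)
  have h6 := eq_of_over_of_charDegree_eq hχ hξ hχξ h5
  have h7 : IsIrrCharacter K (fun n : K => χ n) := by
    have : (fun n : K => χ n) = ξ := h6
    rw [this]
    exact hξ
  have h8 : ¬ Group.IsSolvable (Q ⧸ K) := h.not_solvable_of_le (h.low K hK hKt)
  apply h8
  refine Group.isSolvable_of_comm fun a b => ?_
  refine Cfsg.Agent.CharDeep.PowerDegrees.comm_of_forall_linear (fun β => ?_) a b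
  have h9 : IsIrrCharacter Q ((β : Q ⧸ K → ℂ) ∘ QuotientGroup.mk' K) :=
    isIrr_comp _ (QuotientGroup.mk'_surjective K) β.2
  have hβK : ∀ k ∈ K, ((β : Q ⧸ K → ℂ) ∘ QuotientGroup.mk' K) k = ((β : Q ⧸ K → ℂ) ∘ QuotientGroup.mk' K) 1 := by
    intro k hk
    show (β : Q ⧸ K → ℂ) (k : Q ⧸ K) = (β : Q ⧸ K → ℂ) ((1 : Q) : Q ⧸ K)
    rw [(QuotientGroup.eq_one_iff k).2 hk, QuotientGroup.mk_one]
  have h10 := Cfsg.Agent.H597.FrobC.isIrr_mul_of_restrict K hχ h7 h9 hβK
  have h11 : Ov Z l (((β : Q ⧸ K → ℂ) ∘ QuotientGroup.mk' K) * χ) := by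
    intro g z
    show (β : Q ⧸ K → ℂ) ((g * z : Q) : Q ⧸ K) * χ (g * z) = (β : Q ⧸ K → ℂ) (g : Q ⧸ K) * χ g * l z
    rw [hov g z, QuotientGroup.mk_mul_of_mem _ (hZK z.2)]
    ring
  have h12 := h.deg _ h10 h11
  have h13 : charDegree (((β : Q ⧸ K → ℂ) ∘ QuotientGroup.mk' K) * χ) = charDegree (β : Q ⧸ K → ℂ) * charDegree χ := by
    refine Blocks.Basic.charDegree_of_eq ?_
    show (β : Q ⧸ K → ℂ) ((1 : Q) : Q ⧸ K) * χ 1 = _
    rw [QuotientGroup.mk_one, Blocks.Basic.irr_one_eq_charDegree hχ, Blocks.Basic.irr_one_eq_charDegree β.2]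
    push_cast
    ring
  rw [h13] at h12
  have h14 : charDegree (β : Q ⧸ K → ℂ) = 1 := by
    refine h12.of_mul_left.eq_one (h1.of_dvd ?_)
    exact Cfsg.Agent.H669.Basic.charDegree_dvd_card β.2
  rw [Blocks.Basic.irr_one_eq_charDegree β.2, h14, Nat.cast_one]

theorem Z_le (h : Min Q Z l ω) {K : Subgroup Q} (hKmax : ∀ N : Subgroup Q, N.Normal → N ≠ ⊤ → N ≤ K) : Z ≤ K :=
  hKmax Z inferInstance (h.ne_top_of_solvable
    (isSolvable_of_abelian fun _ ha b _ => (Subgroup.mem_center_iff.1 (h.cen ha) b).symm))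

/-- Normal solvable subgroups `L` with `[L, L]` central are central. -/
theorem le_center (h : Min Q Z l ω) (L : Subgroup Q) [hL : L.Normal]
    (hLC : ∀ x ∈ L, ∀ y ∈ L, ⁅x, y⁆ ∈ center Q) : L ≤ center Q := by
  classical
  obtain ⟨K, hK, hKt, hKmax⟩ := h.exists_K
  -- `L` is nilpotent
  have hnil : Group.IsNilpotent L := by
    have hcomm : ∀ a b : L ⧸ center L, a * b = b * a := by
      intro a b
      obtain ⟨x, rfl⟩ := QuotientGroup.mk_surjective a
      obtain ⟨y, rfl⟩ := QuotientGroup.mk_surjective b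
      rw [← commutatorElement_eq_one_iff_mul_comm]
      have h1 : ⁅x, y⁆ ∈ center L := by
        rw [mem_center_iff]
        intro g
        exact Subtype.ext (Subgroup.mem_center_iff.1 (hLC x x.2 y y.2) (g : Q))
      exact (QuotientGroup.eq_one_iff _).2 h1
    have h2 : Group.IsNilpotent (L ⧸ center L) := by
      letI : CommGroup (L ⧸ center L) := { (inferInstance : Group (L ⧸ center L)) with mul_comm := hcomm }
      infer_instance
    exact Subgroup.isNilpotent_of_ker_le_center (QuotientGroup.mk' (center L))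
      (by rw [QuotientGroup.ker_mk'])
  have hpi := h.pi_of_nilpotent L hnil
  obtain ⟨H, h1, h2, h3⟩ := h.hall
  -- `L ≤ H Z`
  have hLH : L ≤ H.comap (QuotientGroup.mk' Z) := by
    rw [← Subgroup.relIndex_eq_one]
    refine PiNum.eq_one (ω := ω) (hpi.of_dvd (Subgroup.relIndex_dvd_card _ _)) (h3.of_dvd ?_)
    rw [← Subgroup.index_comap_of_surjective H (QuotientGroup.mk'_surjective Z)]
    exact relIndex_dvd_of_normal_right _ _
  have hLn : (L.map (QuotientGroup.mk' Z)).Normal := hL.map _ (QuotientGroup.mk'_surjective Z)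
  let C₁ : Subgroup Q := (centralizer (L.map (QuotientGroup.mk' Z) : Set (Q ⧸ Z))).comap (QuotientGroup.mk' Z)
  have hC₁n : C₁.Normal := inferInstance
  have hHC : H.comap (QuotientGroup.mk' Z) ≤ C₁ := by
    intro g hg
    rw [Subgroup.mem_comap, Subgroup.mem_centralizer_iff]
    rintro _ ⟨x, hx, rfl⟩
    exact h1 _ (hLH hx) _ hg
  have htop : C₁ = ⊤ := by
    by_contra hne
    exact h.not_le hKt (h.Z_le hKmax) h3 (hHC.trans (hKmax C₁ hC₁n hne))
  have hcz : ∀ g : Q, ∀ x ∈ L, ⁅g, x⁆ ∈ center Q := by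
    intro g x hx
    apply h.cen
    rw [← QuotientGroup.eq_one_iff]
    show QuotientGroup.mk' Z ⁅g, x⁆ = 1
    rw [map_commutatorElement, commutatorElement_eq_one_iff_mul_comm]
    have h4 : g ∈ C₁ := by rw [htop]; trivial
    rw [Subgroup.mem_comap, Subgroup.mem_centralizer_iff] at h4
    exact (h4 _ ⟨x, hx, rfl⟩).symm
  intro x hx
  rw [mem_center_iff]
  intro g
  let f : Q →* center Q := MonoidHom.mk' (fun g => ⟨⁅g, x⁆, hcz g x hx⟩) (by
    intro a b
    apply Subtype.ext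
    show ⁅a * b, x⁆ = ⁅a, x⁆ * ⁅b, x⁆
    have h5 := Subgroup.mem_center_iff.1 (hcz b x hx) a
    have h6 : ⁅a * b, x⁆ = (a * ⁅b, x⁆) * (x * a⁻¹ * x⁻¹) := by
      simp only [commutatorElement_def]
      group
    rw [h6, h5, mul_assoc, ← (Subgroup.mem_center_iff.1 (hcz b x hx) _)]
    simp only [commutatorElement_def]
    group)
  have h7 := congrArg Subtype.val (h.hom_eq_one (fun a b => Subtype.ext
    (Subgroup.mem_center_iff.1 a.2 (b : Q)).symm) f g)
  exact commutatorElement_eq_one_iff_mul_comm.1 h7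

theorem K_eq (h : Min Q Z l ω) {K : Subgroup Q} (hK : K.Normal) (hKt : K ≠ ⊤)
    (hKmax : ∀ N : Subgroup Q, N.Normal → N ≠ ⊤ → N ≤ K) : K = center Q := by
  have h1 : center Q ≤ K := hKmax _ inferInstance (h.ne_top_of_solvable
    (isSolvable_of_abelian fun a ha b _ => (Subgroup.mem_center_iff.1 ha b).symm))
  by_contra hne
  obtain ⟨L, s, hL, hCL, -, -, -, hLC, -⟩ := exists_chief (C := center Q) inferInstance hK
    (lt_of_le_of_ne h1 (Ne.symm hne)) (h.low K hK hKt)
  exact hCL.not_ge (h.le_center L hLC)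

end Min

/-- There is no minimal counterexample. -/
theorem Min.false {Q : Type u} [Group Q] [Finite Q] {Z : Subgroup Q} [Z.Normal] {l : Z →* ℂˣ} {ω : Set ℕ}
    (hqs : QSHyp.{u}) (hIM : IMT.{u}) (h : Min Q Z l ω) : False := by
  classical
  obtain ⟨K, hK, hKt, hKmax⟩ := h.exists_K
  have hKc := h.K_eq hK hKt hKmax
  have hKcen : ∀ k ∈ K, k ∈ center Q := fun k hk => hKc ▸ hk
  have hZK := h.Z_le hKmax
  have hKab : ∀ a ∈ K, ∀ b ∈ K, a * b = b * a := fun a ha b _ => (Subgroup.mem_center_iff.1 (hKcen a ha) b).symm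
  have hns : ¬ Group.IsSolvable (Q ⧸ K) := h.not_solvable_of_le (h.low K hK hKt)
  have hna : ¬ IsMulCommutative (Q ⧸ K) := fun h1 => hns (Group.isSolvable_of_comm fun a b => h1.is_comm.comm a b)
  have hnt : Nontrivial (Q ⧸ K) := by
    by_contra h1
    rw [not_nontrivial_iff_subsingleton] at h1
    exact hns (Group.isSolvable_of_comm fun a b => Subsingleton.elim _ _)
  have hsimp : IsSimpleGroup (Q ⧸ K) := by
    refine ⟨fun N hN => ?_⟩
    by_cases h1 : N.comap (QuotientGroup.mk' K) = ⊤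
    · right
      rw [eq_top_iff]
      intro y _
      obtain ⟨g, rfl⟩ := QuotientGroup.mk_surjective y
      have h2 : g ∈ N.comap (QuotientGroup.mk' K) := by rw [h1]; trivial
      exact h2
    · left
      rw [eq_bot_iff]
      intro y hy
      obtain ⟨g, rfl⟩ := QuotientGroup.mk_surjective y
      have h2 := hKmax _ (inferInstance : (N.comap (QuotientGroup.mk' K)).Normal) h1 (show g ∈ _ from hy)
      exact (QuotientGroup.eq_one_iff g).2 h2
  -- the extension of `l`
  obtain ⟨ν, hν⟩ := exists_ext (l := l) (M := K) h.cen hZK hKab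
  have hνl : ∀ (z : Q) (hz : z ∈ Z) (hm : z ∈ K), ν ⟨z, hm⟩ = l ⟨z, hz⟩ := hν
  have hνdeg : AllDeg ω K ν := by
    intro χ hχ hov
    refine h.deg χ hχ fun g z => ?_
    rw [← hνl z z.2 (hZK z.2)]
    exact hov g ⟨z, hZK z.2⟩
  have hνinj : Function.Injective ν := by
    rw [injective_iff_map_eq_one]
    intro z hz
    by_contra hne
    let N : Subgroup Q := ν.ker.map K.subtype
    have hNc : ∀ n ∈ N, n ∈ center Q := by
      rintro _ ⟨y, -, rfl⟩
      exact hKcen _ y.2
    have hNn : N.Normal := ⟨fun n hn g => by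
      rw [(Subgroup.mem_center_iff.1 (hNc n hn) g), mul_inv_cancel_right]
      exact hn⟩
    obtain ⟨y, hy, hyN, h1⟩ := h.quo N hNn (by
      intro h1
      apply hne
      have h2 : (z : Q) ∈ N := ⟨z, hz, rfl⟩
      rw [h1, mem_bot] at h2
      exact Subtype.ext h2)
      (isSolvable_of_abelian fun a ha b _ => (Subgroup.mem_center_iff.1 (hNc a ha) b).symm)
    obtain ⟨w, hw, hwy⟩ := hyN
    apply h1
    have h2 : (⟨y, hZK hy⟩ : K) = w := Subtype.ext hwy.symm
    rw [← hνl y hy (hZK hy), h2]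
    exact hw
  have hpiK : PiNum ω (Nat.card K) := by
    refine h.pi_of_nilpotent K ?_
    letI : CommGroup K := { (inferInstance : Group K) with
      mul_comm := fun a b => Subtype.ext (hKab a a.2 b b.2) }
    infer_instance
  have hall : AbHall ω (Q ⧸ K) := by
    refine AbHall.surj h.hall (QuotientGroup.map Z K (MonoidHom.id Q) hZK) ?_
    intro y
    obtain ⟨g, rfl⟩ := QuotientGroup.mk_surjective y
    exact ⟨(g : Q ⧸ Z), rfl⟩
  by_cases hKb : K = ⊥
  · -- `Q` is simple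
    have hZb : Z = ⊥ := le_bot_iff.1 (hKb ▸ hZK)
    have hdeg : ∀ χ : Q → ℂ, IsIrrCharacter Q χ → PiNum ω (charDegree χ) := by
      intro χ hχ
      refine h.deg χ hχ fun g z => ?_
      have h1 : z = 1 := Subtype.ext (mem_bot.1 (hZb.le z.2))
      rw [h1, map_one, Subgroup.coe_one, mul_one, Units.val_one, mul_one]
    obtain ⟨H, h1, h2, h3⟩ := hall
    have h4 : H.index ≠ 1 := by
      intro h5
      rw [Subgroup.index_eq_one] at h5
      exact hna ⟨⟨fun a b => h1 a (by rw [h5]; trivial) b (by rw [h5]; trivial)⟩⟩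
    obtain ⟨q, hq, hqd⟩ := Nat.exists_prime_and_dvd h4
    have hqω : q ∉ ω := h3 q hq hqd
    have : Fact q.Prime := ⟨hq⟩
    have hqQ : q ∣ Nat.card Q := by
      rw [Subgroup.card_eq_card_quotient_mul_card_subgroup K]
      exact (hqd.trans H.index_dvd_card).mul_right _
    obtain ⟨P⟩ : Nonempty (Sylow q Q) := inferInstance
    obtain ⟨hPn, hPab⟩ := hIM q Q (fun β hβ hd => hqω (hdeg β hβ q hq hd)) P
    have h5 : (P : Subgroup Q) ≠ ⊤ := h.ne_top_of_solvable (isSolvable_of_abelian hPab)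
    have h6 := hKmax _ hPn h5
    rw [hKb, le_bot_iff] at h6
    exact P.ne_bot_of_dvd_card hqQ h6
  · -- the quasisimple case
    have key : ∀ (σ : Q →* Q ⧸ K), Function.Surjective σ → σ.ker = K → False := by
      intro σ hσs hσ
      let ν' : σ.ker →* ℂˣ := ν.comp (MulEquiv.subgroupCongr hσ).toMonoidHom
      refine hqs (Q ⧸ K) Q σ ν' ω hna ⟨hσs, ?_, ?_⟩ ?_ ?_ ?_ ?_ hall
      · rw [hσ]
        exact hKcen
      · rw [h.perfect]
        exact le_top
      · exact hνinj.comp (MulEquiv.subgroupCongr hσ).injective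
      · rw [hσ]
        exact hKb
      · rw [hσ]
        exact hpiK
      · intro χ hχ hov
        refine hνdeg χ hχ fun g z => ?_
        exact hov g ⟨z, by rw [hσ]; exact z.2⟩
    exact key (QuotientGroup.mk' K) (QuotientGroup.mk'_surjective K) (QuotientGroup.ker_mk' K)

theorem central_aux (hqs : QSHyp.{u}) (hIM : IMT.{u}) (n : ℕ) : ∀ {Q : Type u} [Group Q] [Finite Q]
    {Z : Subgroup Q} [Z.Normal] (_ : Z ≤ center Q) {l : Z →* ℂˣ} {ω : Set ℕ} (_ : AllDeg ω Z l)
    (_ : AbHall ω (Q ⧸ Z)), Nat.card Q = n → Group.IsSolvable Q := by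
  induction n using Nat.strong_induction_on with
  | _ n ih =>
    intro Q _ _ Z _ hZ l ω hdeg hall hn
    subst hn
    by_contra hns
    have hlow : ∀ M : Subgroup Q, M.Normal → M ≠ ⊤ → Group.IsSolvable M := by
      intro M hM hMt
      have hlt : Nat.card M < Nat.card Q := by
        rcases (Subgroup.card_le_card_group M).lt_or_eq with h1 | h1
        · exact h1
        · exact absurd (Subgroup.eq_top_of_card_eq M h1) hMt
      refine ih _ hlt (center_subgroupOf hZ M) (AllDeg.normal hZ hdeg M) ?_ rfl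
      let f : M ⧸ Z.subgroupOf M →* Q ⧸ Z := QuotientGroup.map (Z.subgroupOf M) Z M.subtype le_rfl
      refine AbHall.normal hall f ?_ ?_
      · rw [injective_iff_map_eq_one]
        intro a ha
        obtain ⟨x, rfl⟩ := QuotientGroup.mk_surjective a
        have h1 : ((x : Q) : Q ⧸ Z) = 1 := ha
        exact (QuotientGroup.eq_one_iff x).2 ((QuotientGroup.eq_one_iff (x : Q)).1 h1)
      · have h1 : f.range = M.map (QuotientGroup.mk' Z) := by
          ext y
          constructor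
          · rintro ⟨a, rfl⟩
            obtain ⟨x, rfl⟩ := QuotientGroup.mk_surjective a
            exact ⟨x, x.2, rfl⟩
          · rintro ⟨x, hx, rfl⟩
            exact ⟨((⟨x, hx⟩ : M) : M ⧸ Z.subgroupOf M), rfl⟩
        rw [h1]
        exact hM.map _ (QuotientGroup.mk'_surjective Z)
    refine Min.false (Q := Q) (Z := Z) (l := l) (ω := ω) hqs hIM ⟨hZ, hdeg, hall, hns, hlow, ?_⟩
    intro N hN hNb hNs
    by_contra hcon
    push Not at hcon
    obtain ⟨l', hl'⟩ := AllDeg.quot hdeg N (fun z hz hzN => hcon z hz hzN)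
    apply hns
    refine isSolvable_of_quot N hNs ?_
    have hZn : (Z.map (QuotientGroup.mk' N)).Normal := Subgroup.Normal.map inferInstance _ (QuotientGroup.mk'_surjective N)
    refine ih (Nat.card (Q ⧸ N)) ?_ (Z := Z.map (QuotientGroup.mk' N)) ?_ hl' ?_ rfl
    · rw [Subgroup.card_eq_card_quotient_mul_card_subgroup N]
      have h1 : 0 < Nat.card (Q ⧸ N) := Nat.card_pos
      have h2 : 1 < Nat.card N := by
        have h3 : 0 < Nat.card N := Nat.card_pos
        have h4 : Nat.card N ≠ 1 := fun h5 => hNb (Subgroup.card_eq_one.1 h5)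
        omega
      nlinarith
    · rintro _ ⟨z, hz, rfl⟩
      rw [mem_center_iff]
      intro y
      obtain ⟨g, rfl⟩ := QuotientGroup.mk_surjective y
      show QuotientGroup.mk' N g * QuotientGroup.mk' N z = QuotientGroup.mk' N z * QuotientGroup.mk' N g
      rw [← map_mul, ← map_mul, Subgroup.mem_center_iff.1 (hZ hz) g]
    · refine AbHall.surj hall (QuotientGroup.map Z (Z.map (QuotientGroup.mk' N)) (QuotientGroup.mk' N)
        (Subgroup.le_comap_map _ _)) ?_
      intro y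
      obtain ⟨x, rfl⟩ := QuotientGroup.mk_surjective y
      obtain ⟨g, rfl⟩ := QuotientGroup.mk_surjective x
      exact ⟨(g : Q ⧸ Z), rfl⟩

/-- **REL4985-CENTRAL.** -/
theorem central (hqs : QSHyp.{u}) (hIM : IMT.{u}) {Q : Type u} [Group Q] [Finite Q] {Z : Subgroup Q} [Z.Normal]
    (hZ : Z ≤ Subgroup.center Q) {l : Z →* ℂˣ} {ω : Set ℕ} (hdeg : AllDeg ω Z l) (hH : AbHall ω (Q ⧸ Z)) :
    Group.IsSolvable Q :=
  central_aux hqs hIM _ hZ hdeg hH rfl

end Cfsg.Agent.H42.Rel
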