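import Cfsg.Agent.H726.Rel.Iface
import Cfsg.Agent.H692.Rel.Mab
import Cfsg.Agent.H692.Rel.Simple
import Cfsg.Agent.H597.FrobC
import Cfsg.Agent.CharDeep.PowerDegrees

/-!
# Characters over a linear character of a central subgroup (helper42, for S4985, S4992)

* `exists_over_ov`: characters of a subgroup `M` over `l|_{Z ∩ M}` lie under characters of `Q` over `l`;
* `AllDeg.normal`, `AllDeg.quot`: the hypothesis passes to normal subgroups and to quotients;
* `AbHall.normal`, `AbHall.surj`: abelian Hall subgroups of normal subgroups and of quotients.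
-/

set_option autoImplicit false
set_option linter.style.haveILetI false
set_option linter.unusedSectionVars false

namespace Cfsg.Agent.H42.Rel

open Cfsg Cfsg.Agent.Characters.Core Cfsg.Agent.Blocks.Basic Subgroup
open Cfsg.Agent.H692.Rel Cfsg.Agent.H726.Rel Cfsg.Agent.H672
open scoped commutatorElement

universe u v

section ovr
variable {Q : Type u} [Group Q] [Finite Q] {Z : Subgroup Q}

theorem exists_over_ov (hZ : Z ≤ center Q) (l : Z →* ℂˣ) (M : Subgroup Q) {ψ : M → ℂ}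
    (hψ : IsIrrCharacter M ψ)
    (hov : ∀ (z : Q) (hz : z ∈ Z) (hm : z ∈ M), ψ ⟨z, hm⟩ = ψ 1 * l ⟨z, hz⟩) :
    ∃ χ : Q → ℂ, IsIrrCharacter Q χ ∧ Ov Z l χ ∧ Over M.subtype χ ψ := by
  classical
  letI := Fintype.ofFinite Q
  letI := Fintype.ofFinite Z
  letI := Fintype.ofFinite M
  haveI := finite_irr (G := Q)
  letI := Fintype.ofFinite (IrrCharacter Q)
  by_contra hcon
  push Not at hcon
  obtain ⟨c, hc, hc'⟩ := CharDeep.CliffordCorr.exists_nat_coeffs_indFun M (isIrr_isCharacter hψ)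
  have h0 : ∀ χ : IrrCharacter Q, Ov Z l (χ : Q → ℂ) → (c χ : ℂ) = 0 := by
    intro χ hχ
    have h1 := hcon χ χ.2 hχ
    rw [over_iff, not_not] at h1
    rw [← hc', ← classInner_conj_symm]
    have h2 : classInner (fun h : M => (χ : Q → ℂ) h) ψ = 0 := h1
    rw [h2, map_zero]
  have h1 : ∑ z : Z, ((l z : ℂ))⁻¹ * indFun M ψ (1 * z) = 0 := by
    have e1 : ∀ z : Z, ((l z : ℂ))⁻¹ * indFun M ψ (1 * z) =
        ∑ χ : IrrCharacter Q, (c χ : ℂ) * (((l z : ℂ))⁻¹ * (χ : Q → ℂ) (1 * z)) := by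
      intro z
      rw [hc, Finset.sum_apply, Finset.mul_sum]
      refine Finset.sum_congr rfl fun χ _ => ?_
      rw [Pi.smul_apply, smul_eq_mul]
      ring
    rw [Finset.sum_congr rfl fun z _ => e1 z, Finset.sum_comm]
    refine Finset.sum_eq_zero fun χ _ => ?_
    rw [← Finset.mul_sum, sum_mu hZ χ.2 1]
    split_ifs with h
    · rw [h0 χ h, zero_mul]
    · rw [mul_zero]
  have h2 : ∀ z : Z, ((l z : ℂ))⁻¹ * indFun M ψ (1 * z) =
      if (z : Q) ∈ M then (Nat.card M : ℂ)⁻¹ * (Fintype.card Q * ψ 1) else 0 := by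
    intro z
    have e2 : ∀ x : Q, x⁻¹ * (1 * (z : Q)) * x = z := by
      intro x
      rw [one_mul, (Subgroup.mem_center_iff.1 (hZ z.2) x⁻¹), inv_mul_cancel_right]
    rw [indFun_apply, Finset.sum_congr rfl (fun x _ => by rw [e2 x]), Finset.sum_const, Finset.card_univ,
      nsmul_eq_mul]
    split_ifs with h
    · rw [extendByZero_of_mem M ψ h, hov z z.2 h]
      have h3 : (l z : ℂ) ≠ 0 := Units.ne_zero _
      field_simp
    · rw [extendByZero_of_notMem M ψ h, mul_zero, mul_zero, mul_zero]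
  rw [Finset.sum_congr rfl fun z _ => h2 z, ← Finset.sum_filter, Finset.sum_const, nsmul_eq_mul] at h1
  have h3 : (Finset.univ.filter fun z : Z => (z : Q) ∈ M).card ≠ 0 := by
    rw [Finset.card_ne_zero]
    exact ⟨1, Finset.mem_filter.2 ⟨Finset.mem_univ _, one_mem M⟩⟩
  refine mul_ne_zero (Nat.cast_ne_zero.2 h3) (mul_ne_zero (inv_ne_zero (Nat.cast_ne_zero.2 Nat.card_pos.ne'))
    (mul_ne_zero (Nat.cast_ne_zero.2 Fintype.card_ne_zero) (isIrr_apply_one_ne_zero hψ))) h1

/-- The restriction of `l` to `Z ∩ M`. -/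
def resL (l : Z →* ℂˣ) (M : Subgroup Q) : Z.subgroupOf M →* ℂˣ :=
  l.comp ((M.subtype.subgroupComap Z) : Z.subgroupOf M →* Z)

theorem resL_apply (l : Z →* ℂˣ) (M : Subgroup Q) (z : Z.subgroupOf M) :
    resL l M z = l ⟨(z : M), z.2⟩ := rfl

/-- The hypothesis passes to normal subgroups. -/
theorem AllDeg.normal {ω : Set ℕ} (hZ : Z ≤ center Q) {l : Z →* ℂˣ} (h : AllDeg ω Z l) (M : Subgroup Q)
    [M.Normal] : AllDeg ω (Z.subgroupOf M) (resL l M) := by
  intro ψ hψ hov
  obtain ⟨χ, hχ, h1, h2⟩ := exists_over_ov hZ l M hψ (fun z hz hm => by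
    have := hov 1 ⟨⟨z, hm⟩, hz⟩
    rwa [one_mul, resL_apply] at this)
  exact (h χ hχ h1).of_dvd (charDegree_dvd_of_over M hχ hψ h2).1

theorem center_subgroupOf (hZ : Z ≤ center Q) (M : Subgroup Q) : Z.subgroupOf M ≤ center M := by
  intro z hz
  rw [mem_center_iff]
  intro g
  exact Subtype.ext (Subgroup.mem_center_iff.1 (hZ hz) (g : Q))

/-- The hypothesis passes to quotients by normal subgroups `N` with `l = 1` on `Z ∩ N`. -/
theorem AllDeg.quot {ω : Set ℕ} {l : Z →* ℂˣ} (h : AllDeg ω Z l) (N : Subgroup Q)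
    [N.Normal] (hN : ∀ (z : Q) (hz : z ∈ Z), z ∈ N → l ⟨z, hz⟩ = 1) :
    ∃ l' : Z.map (QuotientGroup.mk' N) →* ℂˣ, AllDeg ω (Z.map (QuotientGroup.mk' N)) l' := by
  let f : Z →* Z.map (QuotientGroup.mk' N) := (QuotientGroup.mk' N).subgroupMap Z
  have hf : Function.Surjective f := (QuotientGroup.mk' N).subgroupMap_surjective Z
  have hk : f.ker ≤ l.ker := by
    intro z hz
    rw [MonoidHom.mem_ker] at hz ⊢
    exact hN z z.2 ((QuotientGroup.eq_one_iff (z : Q)).1 (congrArg Subtype.val hz))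
  refine ⟨f.liftOfSurjective hf ⟨l, hk⟩, ?_⟩
  intro χ hχ hov
  have h1 : IsIrrCharacter Q (χ ∘ QuotientGroup.mk' N) :=
    isIrr_comp _ (QuotientGroup.mk'_surjective N) hχ
  have h2 : Ov Z l (χ ∘ QuotientGroup.mk' N) := by
    intro g z
    have h3 := hov (QuotientGroup.mk' N g) (f z)
    rw [MonoidHom.liftOfRightInverse_comp_apply] at h3
    show χ (QuotientGroup.mk' N (g * z)) = χ (QuotientGroup.mk' N g) * _
    rw [map_mul]
    exact h3
  have h3 : charDegree (χ ∘ QuotientGroup.mk' N) = charDegree χ := by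
    refine Blocks.Basic.charDegree_of_eq ?_
    show χ (QuotientGroup.mk' N 1) = _
    rw [map_one]
    exact irr_one_eq_charDegree hχ
  rw [← h3]
  exact h _ h1 h2

end ovr

section hall
variable {G : Type u} [Group G] {G' : Type v} [Group G']

theorem AbHall.surj {ω : Set ℕ} (h : AbHall ω G) (f : G →* G') (hf : Function.Surjective f) : AbHall ω G' := by
  obtain ⟨H, h1, h2, h3⟩ := h
  refine ⟨H.map f, ?_, h2.of_dvd (H.card_map_dvd f), h3.of_dvd (H.index_map_dvd hf)⟩
  rintro _ ⟨a, ha, rfl⟩ _ ⟨b, hb, rfl⟩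
  rw [← map_mul, h1 a ha b hb, map_mul]

theorem relIndex_dvd_of_normal_right [Finite G] (H R : Subgroup G) [R.Normal] : H.relIndex R ∣ H.index := by
  have h1 := Subgroup.relIndex_mul_index (inf_le_right : H ⊓ R ≤ R)
  have h2 := Subgroup.relIndex_mul_index (inf_le_left : H ⊓ R ≤ H)
  rw [Subgroup.inf_relIndex_right] at h1
  rw [Subgroup.inf_relIndex_left] at h2
  have h3 := Subgroup.relIndex_mul_index (le_sup_left : R ≤ R ⊔ H)
  rw [Subgroup.relIndex_sup_left] at h3
  have h4 : 0 < R.relIndex H := Nat.pos_of_ne_zero (R.subgroupOf H).index_ne_zero_of_finite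
  refine ⟨(R ⊔ H).index, ?_⟩
  apply Nat.eq_of_mul_eq_mul_left h4
  rw [h2, ← h1, ← h3]
  ring

theorem AbHall.normal [Finite G] {ω : Set ℕ} (h : AbHall ω G) (f : G' →* G) (hf : Function.Injective f)
    (hn : f.range.Normal) : AbHall ω G' := by
  obtain ⟨H, h1, h2, h3⟩ := h
  refine ⟨H.comap f, ?_, h2.of_dvd ?_, h3.of_dvd ?_⟩
  · intro a ha b hb
    apply hf
    rw [map_mul, map_mul]
    exact h1 _ ha _ hb
  · exact Subgroup.card_comap_dvd_of_injective H f hf
  · rw [Subgroup.index_comap]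
    exact relIndex_dvd_of_normal_right H f.range

end hall

end Cfsg.Agent.H42.Rel
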